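import Groth.Prelude.Def_GrassD

/-! Coherence of base change of quotients. -/

set_option autoImplicit false
set_option backward.isDefEq.respectTransparency false
set_option backward.isDefEq.respectTransparency.types false
universe u

open CategoryTheory Limits AlgebraicGeometry

noncomputable section

namespace Groth.Agent.Grass52

open Scheme.Modules (pullbackComp pullbackCongr)

variable {A B C D T G X : Scheme.{u}}

theorem comp_assoc_app (h : A ⟶ B) (g : B ⟶ C) (k : C ⟶ D) (M : D.Modules) :
    (pullbackComp h (g ≫ k)).inv.app M ≫ (Scheme.Modules.pullback h).map ((pullbackComp g k).inv.app M) =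
      (pullbackCongr (Category.assoc h g k).symm).hom.app M ≫ (pullbackComp (h ≫ g) k).inv.app M ≫
        (pullbackComp h g).inv.app ((Scheme.Modules.pullback k).obj M) := by
  have h0 := congr_app (Scheme.Modules.pseudofunctor_associativity h g k) M
  simp only [NatTrans.comp_app, Functor.whiskerRight_app, Functor.associator_hom_app, Functor.whiskerLeft_app,
    Category.id_comp] at h0
  rw [show (pullbackCongr (Category.assoc h g k).symm).hom =
    eqToHom (congrArg Scheme.Modules.pullback (Category.assoc h g k).symm) from rfl, ← h0]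
  simp

theorem congr_refl (h : A ⟶ B) (M : B.Modules) : (pullbackCongr (rfl : h = h)).inv.app M = 𝟙 _ := by
  simp [pullbackCongr]

theorem quotBC_quotBC {F : Scheme.{u}} {π : G ⟶ X} {E : X.Modules} {Q : G.Modules} {R : F.Modules}
    {π' : F ⟶ X} {c : F ⟶ G} {h : T ⟶ F} {g : T ⟶ G} {t : T ⟶ X}
    (hgp : g ≫ π = t) (hg : h ≫ c = g) (hcp : c ≫ π = π') (hh : h ≫ π' = t)
    (q : (Scheme.Modules.pullback π).obj E ⟶ Q) (φ : (Scheme.Modules.pullback c).obj Q ⟶ R) :
    Grass.quotBC hgp q ≫ Grass.quotBC hg φ = Grass.quotBC hh (Grass.quotBC hcp q ≫ φ) := by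
  subst hgp hcp
  subst hg
  have hnat : (Scheme.Modules.pullback (h ≫ c)).map q ≫ (pullbackComp h c).inv.app Q =
      (pullbackComp h c).inv.app ((Scheme.Modules.pullback π).obj E) ≫
        (Scheme.Modules.pullback h).map ((Scheme.Modules.pullback c).map q) :=
    (pullbackComp h c).inv.naturality q
  have key := comp_assoc_app h c π E
  rw [show (pullbackCongr (Category.assoc h c π).symm).hom.app E = (pullbackCongr hh).hom.app E from rfl] at key
  unfold Grass.quotBC
  rw [congr_refl (h ≫ c), congr_refl (c ≫ π)]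
  simp only [Category.assoc, Functor.map_comp]
  erw [Category.id_comp, CategoryTheory.Functor.map_id]
  simp only [Category.id_comp]
  rw [reassoc_of% key, reassoc_of% hnat, Iso.inv_hom_id_app_assoc]

theorem quotBC_comp {π : G ⟶ X} {E : X.Modules} {Q Q' : G.Modules} {g : T ⟶ G} {t : T ⟶ X}
    (hg : g ≫ π = t) (q : (Scheme.Modules.pullback π).obj E ⟶ Q) (a : Q ⟶ Q') :
    Grass.quotBC hg (q ≫ a) = Grass.quotBC hg q ≫ (Scheme.Modules.pullback g).map a := by
  simp [Grass.quotBC, Functor.map_comp]

theorem isIso_quotBC {π : G ⟶ X} {E : X.Modules} {Q : G.Modules} {g : T ⟶ G} {t : T ⟶ X}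
    (hg : g ≫ π = t) (q : (Scheme.Modules.pullback π).obj E ⟶ Q) [IsIso q] : IsIso (Grass.quotBC hg q) := by
  unfold Grass.quotBC
  infer_instance

theorem epi_quotBC {π : G ⟶ X} {E : X.Modules} {Q : G.Modules} {g : T ⟶ G} {t : T ⟶ X}
    (hg : g ≫ π = t) (q : (Scheme.Modules.pullback π).obj E ⟶ Q) (hq : Epi q) : Epi (Grass.quotBC hg q) := by
  haveI := hq
  haveI := Grass.epi_pullback_map g q
  unfold Grass.quotBC
  infer_instance

theorem exists_iso_transport {M : T.Modules} {S : T.Modules} {P P' : Σ L : T.Modules, S ⟶ L} (h : P = P')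
    {a : S ⟶ M} (he : ∃ e : M ≅ P.1, a ≫ e.hom = P.2) : ∃ e : M ≅ P'.1, a ≫ e.hom = P'.2 := by
  subst h; exact he

end Groth.Agent.Grass52

end
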